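import Mathlib.Init
/-! Certificates: pairs of roots whose commutator relators kill all root generators in the abelianisation. -/
set_option autoImplicit false
set_option maxRecDepth 20000
namespace CfsgLib.SteinbergPerfect

def certG2 : List (Nat × Nat) := [(0,6),(0,10),(1,5),(1,7),(1,7),(1,11),(0,8),(2,10),(0,9),(2,11),(1,9),(3,11)]

def certB2 : List (Nat × Nat) := [(0,5),(0,5),(0,6),(0,6),(1,4),(1,7),(2,7),(3,6)]

def certD4 : List (Nat × Nat) := [(0,14),(0,15),(0,16),(0,17),(0,19),(0,20),(0,21),(0,22),(1,9),(1,17),(1,20),(1,21),(1,23),(2,22),(2,23),(3,22),(3,23),(4,23),(6,22),(6,23),(7,23),(8,23),(9,23),(14,22)]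

def certF4 : List (Nat × Nat) := [(0,24),(0,26),(0,31),(0,32),(0,42),(0,43),(0,45),(0,46),(1,23),(1,28),(0,29),(1,35),(0,36),(1,37),(0,38),(1,47),(2,37),(0,39),(2,38),(1,39),(3,37),(0,40),(3,38),(1,40),(3,39),(2,40),(3,40),(3,41),(0,44),(3,42),(1,44),(3,43),(2,44),(3,45),(3,46),(3,47),(4,44),(5,44),(6,44),(7,44),(7,45),(7,46),(7,47),(8,46),(8,47),(9,47),(11,47),(18,47)]

def certE6 : List (Nat × Nat) := [(0,46),(0,47),(0,48),(0,49),(0,50),(0,51),(0,52),(0,53),(0,54),(0,55),(0,61),(0,62),(0,63),(0,64),(0,65),(0,66),(0,67),(0,68),(0,69),(0,70),(1,25),(1,53),(1,54),(1,55),(1,64),(1,65),(1,66),(1,67),(1,68),(1,69),(1,71),(2,55),(2,66),(2,67),(2,68),(2,70),(2,71),(3,67),(3,69),(3,70),(3,71),(4,68),(4,69),(4,70),(4,71),(5,55),(5,69),(5,70),(5,71),(6,70),(6,71),(7,70),(7,71),(8,71),(9,71),(10,71),(16,66),(16,69),(16,70),(16,71),(17,70),(17,71),(18,70),(18,71),(19,71),(20,71),(21,71),(22,71),(23,71),(24,71),(25,71),(46,70)]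

def certE7 : List (Nat × Nat) := [(0,93),(0,94),(0,95),(0,96),(0,97),(0,98),(0,99),(0,100),(0,101),(0,102),(0,103),(0,104),(0,105),(0,106),(0,107),(0,108),(0,109),(0,110),(0,111),(0,112),(0,113),(0,114),(0,115),(0,116),(0,117),(0,118),(0,119),(0,120),(0,121),(0,122),(0,123),(0,124),(1,32),(1,109),(1,110),(1,111),(1,112),(1,113),(1,114),(1,115),(1,116),(1,117),(1,118),(1,119),(1,120),(1,121),(1,122),(1,123),(1,125),(2,115),(2,116),(2,117),(2,118),(2,119),(2,120),(2,121),(2,122),(2,124),(2,125),(3,118),(3,119),(3,120),(3,121),(3,123),(3,124),(3,125),(4,119),(4,120),(4,122),(4,123),(4,124),(4,125),(5,119),(5,121),(5,122),(5,123),(5,124),(5,125),(6,120),(6,121),(6,122),(6,123),(6,124),(6,125),(7,122),(7,123),(7,124),(7,125),(8,123),(8,124),(8,125),(9,123),(9,124),(9,125),(10,123),(10,124),(10,125),(11,124),(11,125),(12,124),(12,125),(13,124),(13,125),(14,124),(14,125),(15,124),(15,125),(16,124),(16,125),(17,125),(18,125),(19,125),(20,125),(21,125),(22,125),(23,125),(24,125),(25,125),(26,125),(27,125),(28,125),(29,125),(30,125),(31,125),(32,125),(93,124)]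

def certE8 : List (Nat × Nat) := [(0,120),(0,122),(0,125),(0,129),(0,134),(0,140),(0,146),(0,151),(0,155),(0,158),(0,160),(0,161),(0,168),(0,173),(0,177),(0,180),(0,182),(0,183),(0,187),(0,190),(0,192),(0,193),(0,196),(0,198),(0,199),(0,201),(0,202),(0,203),(0,206),(0,208),(0,209),(0,211),(0,212),(0,213),(0,215),(0,216),(0,217),(0,218),(0,220),(0,221),(0,222),(0,223),(0,224),(0,225),(0,227),(0,228),(0,229),(0,230),(0,231),(0,232),(0,233),(0,234),(0,235),(0,236),(0,237),(0,238),(1,119),(1,161),(1,183),(1,193),(1,199),(1,202),(1,203),(1,209),(1,212),(1,213),(1,216),(1,217),(1,218),(1,221),(1,222),(1,223),(1,224),(1,225),(1,228),(1,229),(1,230),(1,231),(1,232),(1,233),(1,234),(1,235),(1,236),(1,237),(1,239),(2,203),(2,213),(2,217),(2,218),(2,222),(2,223),(2,224),(2,225),(2,229),(2,230),(2,231),(2,232),(2,233),(2,234),(2,235),(2,236),(2,238),(2,239),(3,218),(3,223),(3,224),(3,225),(3,230),(3,231),(3,232),(3,233),(3,234),(3,235),(3,237),(3,238),(3,239),(4,224),(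4,225),(4,231),(4,232),(4,233),(4,234),(4,236),(4,237),(4,238),(4,239),(5,225),(5,232),(5,233),(5,235),(5,236),(5,237),(5,238),(5,239),(6,225),(6,234),(6,235),(6,236),(6,237),(6,238),(6,239),(7,234),(7,235),(7,236),(7,237),(7,238),(7,239),(8,235),(8,236),(8,237),(8,238),(8,239),(9,236),(9,237),(9,238),(9,239),(10,237),(10,238),(10,239),(11,238),(11,239),(12,239),(14,233),(14,234),(14,235),(14,236),(14,237),(14,238),(14,239),(15,235),(15,236),(15,237),(15,238),(15,239),(16,236),(16,237),(16,238),(16,239),(17,237),(17,238),(17,239),(18,238),(18,239),(19,239),(21,236),(21,237),(21,238),(21,239),(22,237),(22,238),(22,239),(23,238),(23,239),(24,239),(26,237),(26,238),(26,239),(27,238),(27,239),(28,239),(30,238),(30,239),(31,239),(33,239),(36,237),(36,238),(36,239),(37,238),(37,239),(38,239),(40,238),(40,239),(41,239),(43,239),(46,238),(46,239),(47,239),(49,239),(52,239),(56,238),(56,239),(57,239),(59,239),(62,239),(66,239),(71,239),(78,238),(78,239),(79,239),(81,239),(84,239),(88,239),(93,239),(99,239),(105,239),(110,239),(114,239),(117,239),(119,239),(120,238)]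

end CfsgLib.SteinbergPerfect
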