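import Cfsg.Prelude.Def_SteinbergCover
import Cfsg.Prelude.Def_ChevG2
import Cfsg.Prelude.Def_ChevB2
import Cfsg.Prelude.Def_ChevD4
import Cfsg.Prelude.Def_ChevF4
import Cfsg.Prelude.Def_ChevE6
import Cfsg.Prelude.Def_ChevE7
import Cfsg.Prelude.Def_ChevE8
import Cfsg.Agent.Lib.SteinbergPerfect.Cert
/-!
The group presented by the additivity and commutator relators of a tabulated Chevalley datum is perfect:
a checked list of pairs of roots kills one root generator after the other in the abelianisation.
-/
set_option autoImplicit false
open Cfsg Cfsg.Lie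

namespace CfsgLib.SteinbergPerfect

/-- One step of the certificate: the root killed by the pair `(r, s)` given the roots killed so far. -/
def killStep (big : Bool) (D : ChevalleyDatum) (killed : List ℕ) (r s : ℕ) : Option ℕ :=
  if r < D.nroots ∧ s < D.nroots ∧ s ≠ r ∧ s ≠ D.neg r then
    match (D.commTerms r s).filter fun c => !(killed.contains c.1) with
    | [(k, c, i, j)] =>
      if (c = 1 ∨ c = -1) ∧ (i = 1 ∨ j = 1) then some k else none
    | [(_, _, i₁, j₁), (k, c, i, j)] =>
      if big = true ∧ (c = 1 ∨ c = -1) ∧ i₁ = 1 ∧ j₁ = 1 ∧ ((i = 2 ∧ j = 1) ∨ (i = 1 ∧ j = 2)) then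
        some k
      else none
    | _ => none
  else none

/-- Run a certificate. -/
def runCert (big : Bool) (D : ChevalleyDatum) : List (ℕ × ℕ) → List ℕ → List ℕ
  | [], killed => killed
  | (r, s) :: rest, killed =>
    match killStep big D killed r s with
    | some k => runCert big D rest (k :: killed)
    | none => killed

def checkCert (big : Bool) (D : ChevalleyDatum) (cert : List (ℕ × ℕ)) : Bool :=
  (List.range D.nroots).all fun k => (runCert big D cert []).contains k

variable {K : Type*} [Field K] (D : ChevalleyDatum)

/-- The class of `x̄_r(t)` in the abelianisation, written additively. -/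
noncomputable def phi (r : ℕ) (t : K) : Additive (Abelianization (D.SteinbergCover K)) :=
  Additive.ofMul (Abelianization.of (D.scGen K r t))

lemma phi_add (r : ℕ) (t u : K) : phi D r (t + u) = phi D r t + phi D r u := by
  by_cases h : r < D.nroots
  · have hrel : PresentedGroup.mk (D.steinbergRelsAB K)
        (D.stX r t * D.stX r u * (D.stX r (t + u))⁻¹) = 1 :=
      PresentedGroup.one_of_mem (Or.inl ⟨r, t, u, h, rfl⟩)
    rw [map_mul, map_mul, map_inv, mul_inv_eq_one] at hrel
    change Additive.ofMul _ = Additive.ofMul _ + Additive.ofMul _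
    rw [← ofMul_mul, ← map_mul]
    exact congrArg _ (congrArg _ hrel.symm)
  · have hx : ∀ v : K, phi D r v = 0 := fun v => by
      simp [phi, ChevalleyDatum.scGen, ChevalleyDatum.stX, dif_neg h]
    simp [hx]

lemma phi_rel {r s : ℕ} (hr : r < D.nroots) (hs : s < D.nroots) (h1 : s ≠ r) (h2 : s ≠ D.neg r)
    (t u : K) :
    ((D.commTerms r s).map fun c =>
      phi D c.1 ((c.2.1 : K) * (-t) ^ c.2.2.1 * u ^ c.2.2.2)).sum = 0 := by
  let F : FreeGroup (Fin D.nroots × K) →* Abelianization (D.SteinbergCover K) :=
    Abelianization.of.comp (PresentedGroup.mk (D.steinbergRelsAB K))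
  have h : F ((D.stX s u)⁻¹ * (D.stX r t)⁻¹ * D.stX s u * D.stX r t
      * (D.stWord (D.commWord K r s t u))⁻¹) = 1 := by
    rw [MonoidHom.comp_apply, PresentedGroup.one_of_mem, map_one]
    exact Or.inr ⟨r, s, t, u, hr, hs, h1, h2, rfl⟩
  have hcomm : (F (D.stX s u))⁻¹ * (F (D.stX r t))⁻¹ * F (D.stX s u) * F (D.stX r t) = 1 := by
    rw [mul_assoc, mul_comm (F (D.stX s u)) (F (D.stX r t))]
    simp [mul_comm, mul_assoc]
  simp only [map_mul, map_inv] at h
  rw [hcomm, one_mul, inv_eq_one] at h
  rw [ChevalleyDatum.stWord, ChevalleyDatum.commWord, List.map_map, map_list_prod, List.map_map] at h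
  have h' := congrArg Additive.ofMul h
  rw [ofMul_list_prod, List.map_map, ofMul_one] at h'
  exact h'

lemma sum_filter_killed {α : Type*} (l : List α) (p : α → Bool)
    {A : Type*} [AddCommMonoid A] (f : α → A) (h : ∀ a ∈ l, p a = false → f a = 0) :
    (l.map f).sum = ((l.filter p).map f).sum := by
  induction l with
  | nil => simp
  | cons a l ih =>
    have ih' := ih fun b hb => h b (List.mem_cons_of_mem a hb)
    cases hp : p a <;> simp [hp, ih', h a (by simp)]

lemma killStep_sound {big : Bool} (hbig : big = true → ∃ a : K, a ≠ 0 ∧ a ≠ 1) {killed : List ℕ}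
    (hk : ∀ k ∈ killed, ∀ t : K, phi D k t = 0) {r s k : ℕ}
    (h : killStep big D killed r s = some k) (x : K) : phi D k x = 0 := by
  unfold killStep at h
  split at h
  case isFalse => simp at h
  case isTrue hcond =>
    obtain ⟨hr, hs, h1, h2⟩ := hcond
    have key : ∀ t u : K, (((D.commTerms r s).filter fun c => !(killed.contains c.1)).map fun c =>
        phi D c.1 ((c.2.1 : K) * (-t) ^ c.2.2.1 * u ^ c.2.2.2)).sum = 0 := fun t u => by
      refine (sum_filter_killed _ _ _ ?_).symm.trans (phi_rel D hr hs h1 h2 t u)
      intro c _ hc
      exact hk _ (by simpa using hc) _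
    split at h
    · rename_i k' c i j heq
      rw [heq] at key
      split at h
      case isFalse => simp at h
      case isTrue hc =>
        obtain rfl : k' = k := by simpa using h
        obtain ⟨hc1, hij⟩ := hc
        have hcc : (c : K) * (c : K) = 1 := by rcases hc1 with rfl | rfl <;> simp
        rcases hij with rfl | rfl
        · have := key (-((c : K) * x)) 1
          simpa [← mul_assoc, hcc] using this
        · have := key (-1) ((c : K) * x)
          simpa [← mul_assoc, hcc] using this
    · rename_i k₁ c₁ i₁ j₁ k' c i j heq
      rw [heq] at key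
      split at h
      case isFalse => simp at h
      case isTrue hc =>
        obtain rfl : k' = k := by simpa using h
        obtain ⟨hb, hc1, rfl, rfl, hij⟩ := hc
        obtain ⟨a, ha0, ha1⟩ := hbig hb
        have hcc : (c : K) * (c : K) = 1 := by rcases hc1 with rfl | rfl <;> simp
        have hc0 : (c : K) ≠ 0 := fun hz => by simp [hz] at hcc
        have ha' : a - 1 ≠ 0 := sub_ne_zero.mpr ha1
        simp only [List.map_cons, List.map_nil, List.sum_cons, List.sum_nil, add_zero, pow_one] at key
        rcases hij with ⟨rfl, rfl⟩ | ⟨rfl, rfl⟩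
        · let u : K := x / ((c : K) * (a - 1))
          have e1 := key (-a) (u / a)
          have e2 := key (-1) u
          simp only [neg_neg, pow_one] at e1 e2
          have : (c₁ : K) * a * (u / a) = (c₁ : K) * 1 * u := by field_simp
          rw [this] at e1
          have e3 : phi D k' ((c : K) * a ^ 2 * (u / a)) = phi D k' ((c : K) * 1 ^ 2 * u) :=
            add_left_cancel (e1.trans e2.symm)
          have split' : (c : K) * a ^ 2 * (u / a) = (c : K) * 1 ^ 2 * u + x := by
            simp only [u]; field_simp; ring
          rw [split', phi_add] at e3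
          simpa using e3
        · let t : K := x / ((c : K) * (a - 1))
          have e1 := key (-(t / a)) a
          have e2 := key (-t) 1
          simp only [neg_neg, pow_one] at e1 e2
          have : (c₁ : K) * (t / a) * a = (c₁ : K) * t * 1 := by field_simp
          rw [this] at e1
          have e3 : phi D k' ((c : K) * (t / a) * a ^ 2) = phi D k' ((c : K) * t * 1 ^ 2) :=
            add_left_cancel (e1.trans e2.symm)
          have split' : (c : K) * (t / a) * a ^ 2 = (c : K) * t * 1 ^ 2 + x := by
            simp only [t]; field_simp; ring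
          rw [split', phi_add] at e3
          simpa using e3
    · simp at h

lemma runCert_sound {big : Bool} (hbig : big = true → ∃ a : K, a ≠ 0 ∧ a ≠ 1) :
    ∀ (cert : List (ℕ × ℕ)) (killed : List ℕ), (∀ k ∈ killed, ∀ t : K, phi D k t = 0) →
      ∀ k ∈ runCert big D cert killed, ∀ t : K, phi D k t = 0
  | [], _, hk => hk
  | (r, s) :: rest, killed, hk => by
    unfold runCert
    split
    · rename_i k' h
      refine runCert_sound hbig rest _ ?_
      intro k hmem t
      rcases List.mem_cons.1 hmem with rfl | hmem
      · exact killStep_sound D hbig hk h t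
      · exact hk k hmem t
    · exact hk

theorem perfect_of_cert {big : Bool} (hbig : big = true → ∃ a : K, a ≠ 0 ∧ a ≠ 1)
    {cert : List (ℕ × ℕ)} (hcert : checkCert big D cert = true) :
    commutator (D.SteinbergCover K) = ⊤ := by
  have hzero : ∀ k, k < D.nroots → ∀ t : K, phi D k t = 0 := fun k hk => by
    refine runCert_sound D hbig cert [] (by simp) k ?_
    unfold checkCert at hcert
    rw [List.all_eq_true] at hcert
    simpa using hcert k (List.mem_range.2 hk)
  rw [← Abelianization.ker_of, MonoidHom.ker_eq_top_iff]
  refine PresentedGroup.ext fun p => ?_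
  have := hzero p.1 p.1.2 p.2
  simpa [phi, ChevalleyDatum.scGen, ChevalleyDatum.stX, PresentedGroup.of] using this

set_option maxRecDepth 20000 in
theorem check_G2 : checkCert true chevG2 certG2 = true := by decide +kernel
set_option maxRecDepth 20000 in
theorem check_B2 : checkCert true chevB2 certB2 = true := by decide +kernel
set_option maxRecDepth 20000 in
theorem check_D4 : checkCert false chevD4 certD4 = true := by decide +kernel
set_option maxRecDepth 20000 in
theorem check_F4 : checkCert false chevF4 certF4 = true := by decide +kernel
set_option maxRecDepth 20000 in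
theorem check_E6 : checkCert false chevE6 certE6 = true := by decide +kernel
set_option maxRecDepth 20000 in
theorem check_E7 : checkCert false chevE7 certE7 = true := by decide +kernel
set_option maxRecDepth 20000 in
theorem check_E8 : checkCert false chevE8 certE8 = true := by decide +kernel

end CfsgLib.SteinbergPerfect
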